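import Mathlib
import Cfsg.Agent.Lib.StdV.Defs2

/-! Standard subgroups with centre of odd order: the frames of `StdV` for covers. -/

set_option autoImplicit false
set_option linter.unusedSectionVars false

namespace H36.SZ

open Subgroup H69 H36.SW H36.SV
open H48.SM (Pf)
open scoped commutatorElement

variable {X : Type} [Group X] {G : Type*} [Group G]

/-- `L` covers `J`; `h` is a section of `α` lifting `2`-elements to `2`-elements -/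
structure Sec (J : Subgroup X) (L : Subgroup G) (α : G → X) (h : X → G) : Prop where
  cov : Cov J L α
  hL : ∀ j ∈ J, h j ∈ L
  αh : ∀ j ∈ J, α (h j) = j
  hp : ∀ j ∈ J, P2 j → P2 (h j)

/-- `C(t) ≤ N(L)`, `C(t) ∩ C(L) = ⟨t⟩ × O` -/
structure V0 (F : Dy X) (t : G) (L O : Subgroup G) (α : G → X) (h : X → G) : Prop
    extends Sec F.J L α h where
  t2 : t * t = 1
  t1 : t ≠ 1
  tL : t ∈ 𝐂(L)
  CN : ∀ g, g * t = t * g → g ∈ 𝐍(L)
  OL : O ≤ 𝐂(L)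
  Ot : ∀ o ∈ O, o * t = t * o
  oddO : ∀ o ∈ O, Odd (orderOf o)
  ker2 : ∀ k ∈ 𝐂(L), k * t = t * k → k ∈ O ∨ k * t ∈ O

/-- `L` is the diagonal of `A ∘ tAt` -/
structure Pv (F : Dy X) (t : G) (L O : Subgroup G) (α : G → X) (h : X → G) (u : G) (A : Subgroup G)
    (β : G → X) : Prop extends V0 F t L O α h where
  u2 : u * u = 1
  ut : u * t * u⁻¹ = t * h F.z
  uO : ∀ o ∈ O, u * o = o * u
  uD : ∀ l ∈ L, α l ∈ F.D → u * l = l * u
  covA : Cov F.J A β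
  comm : ∀ g ∈ A, ∀ k ∈ A, g * (t * k * t⁻¹) = (t * k * t⁻¹) * g
  piL : ∀ g ∈ A, g * (t * g * t⁻¹) ∈ L
  onL : ∀ l ∈ L, ∃ g ∈ A, g * (t * g * t⁻¹) = l
  uA : u ∈ A
  genA : A ≤ closure {g | g ∈ A ∧ g * g = 1}

/-- `p` is the projection of `C(Z(L))` onto `C(Z(L)) / Z(L)` -/
structure Qt {K : Type*} [Group K] (L : Subgroup G) (p : G → K) : Prop where
  mul : ∀ x ∈ 𝐂(L ⊓ 𝐂(L)), ∀ y ∈ 𝐂(L ⊓ 𝐂(L)), p (x * y) = p x * p y
  onto : ∀ y, ∃ x ∈ 𝐂(L ⊓ 𝐂(L)), p x = y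
  ker : ∀ x ∈ 𝐂(L ⊓ 𝐂(L)), p x = 1 ↔ x ∈ L ⊓ 𝐂(L)

theorem exists_qt.{u} {G : Type u} [Group G] [Finite G] (L : Subgroup G) :
    ∃ (K : Type u) (_ : Group K) (_ : Finite K) (p : G → K), Qt L p := by
  classical
  haveI : ((L ⊓ 𝐂(L)).subgroupOf 𝐂(L ⊓ 𝐂(L))).Normal := ⟨fun n hn g => by
    rw [mem_subgroupOf] at hn ⊢
    rwa [coe_mul, coe_mul, coe_inv, ← g.2 n hn, mul_inv_cancel_right]⟩
  refine ⟨𝐂(L ⊓ 𝐂(L)) ⧸ (L ⊓ 𝐂(L)).subgroupOf 𝐂(L ⊓ 𝐂(L)), inferInstance, inferInstance,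
    fun g => if h : g ∈ 𝐂(L ⊓ 𝐂(L)) then QuotientGroup.mk ⟨g, h⟩ else 1, fun x hx y hy => ?_, fun y => ?_,
    fun x hx => ?_⟩
  · rw [dif_pos hx, dif_pos hy, dif_pos (mul_mem hx hy)]; rfl
  · obtain ⟨x, rfl⟩ := QuotientGroup.mk_surjective y
    exact ⟨x, x.2, by rw [dif_pos x.2]⟩
  · rw [dif_pos hx, QuotientGroup.eq_one_iff, mem_subgroupOf]

namespace Qt
variable {K : Type*} [Group K] {L : Subgroup G} {p : G → K} (q : Qt L p)

theorem LC : L ≤ 𝐂(L ⊓ 𝐂(L)) := fun l hl _ hz => (hz.2 l hl).symm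
theorem CC : 𝐂(L) ≤ 𝐂(L ⊓ 𝐂(L)) := fun _ hk z hz => hk z hz.1
include q
theorem one : p 1 = 1 := (q.ker 1 (one_mem _)).2 (one_mem _)
/-- `p` as a homomorphism -/
def hom : 𝐂(L ⊓ 𝐂(L)) →* K := MonoidHom.mk' (fun g => p g) fun g k => q.mul g g.2 k k.2
theorem inv {x : G} (hx : x ∈ 𝐂(L ⊓ 𝐂(L))) : p x⁻¹ = (p x)⁻¹ := q.hom.map_inv ⟨x, hx⟩
theorem pow {x : G} (hx : x ∈ 𝐂(L ⊓ 𝐂(L))) (n : ℕ) : p (x ^ n) = p x ^ n := q.hom.map_pow ⟨x, hx⟩ n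
theorem conj {x y : G} (hx : x ∈ 𝐂(L ⊓ 𝐂(L))) (hy : y ∈ 𝐂(L ⊓ 𝐂(L))) :
    p (x * y * x⁻¹) = p x * p y * (p x)⁻¹ := by
  rw [q.mul _ (mul_mem hx hy) _ (inv_mem hx), q.mul _ hx _ hy, q.inv hx]
theorem eq_iff {x y : G} (hx : x ∈ 𝐂(L ⊓ 𝐂(L))) (hy : y ∈ 𝐂(L ⊓ 𝐂(L))) :
    p x = p y ↔ x⁻¹ * y ∈ L ⊓ 𝐂(L) := by
  rw [← q.ker _ (mul_mem (inv_mem hx) hy), q.mul _ (inv_mem hx) _ hy, q.inv hx, inv_mul_eq_one]
end Qt

section cov
variable {J : Subgroup X} {L : Subgroup G} {α : G → X}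

theorem cmt (c : Cov J L α) {a b : G} (ha : a ∈ 𝐍(L)) (hb : b ∈ 𝐍(L)) : α ⁅a, b⁆ = ⁅α a, α b⁆ :=
  map_commutatorElement c.hom ⟨a, ha⟩ ⟨b, hb⟩

/-- two elements of `L` with the same image differ by a central element of odd order -/
theorem dif (c : Cov J L α) {a b : G} (ha : a ∈ L) (hb : b ∈ L) (e : α a = α b) :
    ∃ ζ ∈ L, ζ ∈ 𝐂(L) ∧ Odd (orderOf ζ) ∧ b = a * ζ :=
  have h := c.inv_mul_mem (le_normalizer ha) (le_normalizer hb) e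
  ⟨_, mul_mem (inv_mem ha) hb, h, c.odd' (mul_mem (inv_mem ha) hb) h, by group⟩

/-- an involution is an odd power of each element of `L` with the same image -/
theorem odd_pow (c : Cov J L α) {a b : G} (ha : a ∈ L) (hb : b ∈ L) (a2 : a * a = 1) (e : α a = α b) :
    ∃ n, Odd n ∧ b ^ n = a := by
  obtain ⟨ζ, -, h, o, rfl⟩ := dif c ha hb e
  exact ⟨_, o, by rw [Commute.mul_pow (h a ha), pow_orderOf_eq_one, mul_one, pow_odd_of_sq a2 o]⟩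

/-- conjugacy of involutions lifts; `s' = s` lifts elements centralising `α s` to `C_L(s)` -/
theorem lift_cj [Finite G] (c : Cov J L α) {s s' : G} (sN : s ∈ 𝐍(L)) (s2 : s * s = 1) (s2' : s' * s' = 1)
    (m : s⁻¹ * s' ∈ L) {j : X} (hj : j ∈ J) (e : j * α s * j⁻¹ = α s') :
    ∃ l ∈ L, α l = j ∧ l * s * l⁻¹ = s' := by
  obtain ⟨l, hl, rfl⟩ := c.onto j hj
  have lN := le_normalizer hl
  have sN' : s' ∈ 𝐍(L) := (mul_mem_cancel_left (inv_mem sN)).1 (le_normalizer m)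
  obtain ⟨ζ, hζ⟩ : ∃ ζ, ζ = s'⁻¹ * (l * s * l⁻¹) := ⟨_, rfl⟩
  have zL : ζ ∈ L := by
    rw [hζ, show s'⁻¹ * (l * s * l⁻¹) = (s⁻¹ * s')⁻¹ * (s⁻¹ * l * s) * l⁻¹ by group]
    exact mul_mem (mul_mem (inv_mem m) (conj_mem_of_mem_normalizer' sN hl)) (inv_mem hl)
  have zC : ζ ∈ 𝐂(L) := hζ ▸ c.inv_mul_mem sN' (mul_mem (mul_mem lN sN) (inv_mem lN)) (by rw [c.conj lN sN, e])
  have e1 : l * s * l⁻¹ = s' * ζ := by rw [hζ]; group
  have e2 : s' * ζ * s'⁻¹ = ζ⁻¹ := by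
    have := cjsq s2 l
    rw [e1] at this
    rw [inv_eq_of_mul_eq_one_left s2', eq_inv_iff_mul_eq_one, mul_assoc, this]
  obtain ⟨n, hn⟩ := c.odd' zL zC
  have e3 : ζ ^ (n + 1) * (s' * ζ) * (ζ ^ (n + 1))⁻¹ = s' := by
    have h1 : s' * ζ ^ (n + 1) * s'⁻¹ = (ζ ^ (n + 1))⁻¹ := by rw [← conj_pow, e2, inv_pow]
    have h2 : ζ ^ (n + 1) * s' = s' * (ζ ^ (n + 1))⁻¹ := by
      rw [← h1, ← mul_assoc, ← mul_assoc, s2', one_mul, inv_eq_of_mul_eq_one_left s2']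
    have h3 : ζ ^ (n + 1) * ζ ^ (n + 1) = ζ := by
      rw [← pow_add, show n + 1 + (n + 1) = 2 * n + 1 + 1 by ring, ← hn, pow_succ, pow_orderOf_eq_one, one_mul]
    rw [← mul_assoc, h2]
    conv_lhs => enter [1, 2]; rw [← h3]
    group
  refine ⟨ζ ^ (n + 1) * l, mul_mem (pow_mem zL _) hl, c.cen_mul lN (pow_mem zC _), ?_⟩
  rw [← e3, ← e1]; group

end cov

namespace Sec
variable {J : Subgroup X} {L : Subgroup G} {α : G → X} {h : X → G} (c : Sec J L α h)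
include c

theorem hN {j : X} (hj : j ∈ J) : h j ∈ 𝐍(L) := le_normalizer (c.hL j hj)
theorem hα {a : G} (ha : a ∈ L) (a2 : P2 a) : h (α a) = a :=
  c.cov.uniq (c.hL _ (c.cov.mem a ha)) ha (c.hp _ (c.cov.mem a ha) (c.cov.p2 (le_normalizer ha) a2)) a2
    (c.αh _ (c.cov.mem a ha))
theorem one : h 1 = 1 := by rw [← c.cov.one, c.hα (one_mem _) ⟨0, by simp⟩]
theorem hinj {j k : X} (hj : j ∈ J) (hk : k ∈ J) (e : h j = h k) : j = k := by rw [← c.αh j hj, e, c.αh k hk]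
theorem ne {j : X} (hj : j ∈ J) (n : j ≠ 1) : h j ≠ 1 := fun e => n (by rw [← c.αh j hj, e, c.cov.one])
theorem sq {j : X} (hj : j ∈ J) (e : j * j = 1) : h j * h j = 1 := by
  rw [← pow_two] at e ⊢
  exact c.cov.pow_eq_one (c.hL j hj) (c.hp j hj ⟨1, by rwa [pow_one]⟩) (by rwa [c.αh j hj])
theorem conj {g : G} (hg : g ∈ 𝐍(L)) {j : X} (hj : j ∈ J) (j2 : P2 j) :
    g * h j * g⁻¹ = h (α g * j * (α g)⁻¹) := by
  rw [← c.hα (conj_mem_of_mem_normalizer hg (c.hL j hj)) ((c.hp j hj j2).conj g), c.cov.conj hg (c.hN hj), c.αh j hj]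
theorem cj {j k : X} (hj : j ∈ J) (hk : k ∈ J) (k2 : P2 k) : h (j * k * j⁻¹) = h j * h k * (h j)⁻¹ := by
  rw [c.conj (c.hN hj) hk k2, c.αh j hj]
theorem comm_of {g : G} (hg : g ∈ 𝐍(L)) {j : X} (hj : j ∈ J) (j2 : P2 j) (e : α g * j = j * α g) :
    g * h j = h j * g := c.cov.comm_lift hg (c.hL j hj) (c.hp j hj j2) (by rwa [c.αh j hj])
theorem of_comm {g : G} (hg : g ∈ 𝐍(L)) {j : X} (hj : j ∈ J) (e : g * h j = h j * g) : α g * j = j * α g := by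
  have := c.cov.comm hg (c.hN hj) e
  rwa [c.αh j hj] at this
theorem comm {j k : X} (hj : j ∈ J) (hk : k ∈ J) (k2 : P2 k) (e : j * k = k * j) : h j * h k = h k * h j :=
  c.comm_of (c.hN hj) hk k2 (by rwa [c.αh j hj])
theorem mul {j k : X} (hj : j ∈ J) (hk : k ∈ J) (j2 : P2 j) (k2 : P2 k) (e : j * k = k * j) :
    h (j * k) = h j * h k := by
  rw [← c.hα (mul_mem (c.hL j hj) (c.hL k hk)) ((c.hp j hj j2).mul (c.hp k hk k2) (c.comm hj hk k2 e)),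
    c.cov.mul' (c.hL j hj) (c.hL k hk), c.αh j hj, c.αh k hk]
theorem cen {k : G} (hk : k ∈ 𝐂(L)) {j : X} (hj : j ∈ J) : h j * k = k * h j := hk _ (c.hL j hj)

/-- the lift of a `2`-subgroup -/
theorem lift [Finite G] {Y : Subgroup X} (hY : Y ≤ J) (p : IsPGroup 2 Y) : ∃ P ≤ L, IsPGroup 2 P ∧
    (∀ g, g ∈ P ↔ ∃ y ∈ Y, h y = g) ∧ Nat.card P = Nat.card Y ∧ (∀ a ∈ Y, ∀ b ∈ Y, h (a * b) = h a * h b) ∧
    ∀ y ∈ ⁅Y, Y⁆, h y ∈ ⁅P, P⁆ := by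
  obtain ⟨P, hP, cP⟩ := c.cov.exists_lift hY p
  have m : ∀ y ∈ Y, h y ∈ P := fun y hy =>
    (hP _).2 ⟨c.hL y (hY hy), c.hp y (hY hy) (P2.of_mem p hy), by rwa [c.αh y (hY hy)]⟩
  have mul : ∀ a ∈ Y, ∀ b ∈ Y, h (a * b) = h a * h b := fun a ha b hb => by
    obtain ⟨h1, h2, -⟩ := (hP _).1 (mul_mem (m a ha) (m b hb))
    rw [← c.hα h1 h2, c.cov.mul' (c.hL a (hY ha)) (c.hL b (hY hb)), c.αh a (hY ha), c.αh b (hY hb)]
  refine ⟨P, fun a ha => ((hP a).1 ha).1, isP_of_P2 fun a ha => ((hP a).1 ha).2.1, fun g => ⟨fun hg => ?_,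
    fun ⟨y, hy, e⟩ => e ▸ m y hy⟩, cP, mul, fun y hy => ?_⟩
  · obtain ⟨h1, h2, h3⟩ := (hP g).1 hg
    exact ⟨_, h3, c.hα h1 h2⟩
  · let f : Y →* G := MonoidHom.mk' (fun y => h y) fun a b => mul a a.2 b b.2
    have : ⁅Y, Y⁆ ≤ (⁅P, P⁆.comap f).map Y.subtype := commutator_le.2 fun a ha b hb =>
      ⟨⁅(⟨a, ha⟩ : Y), ⟨b, hb⟩⁆, by
        rw [SetLike.mem_coe, mem_comap, map_commutatorElement]
        exact commutator_mem_commutator (m a ha) (m b hb), rfl⟩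
    obtain ⟨x, hx, rfl⟩ := this hy
    exact hx

/-- the canonical lift of a perfect subgroup generated by involutions -/
theorem hat [Finite G] {Y : Subgroup X} (hY : Y ≤ J) (p : Pf Y) : ∃ N ≤ L, Pf N ∧
    N = closure {a | a ∈ L ∧ a * a = 1 ∧ α a ∈ Y} ∧ (∀ a ∈ N, α a ∈ Y) ∧ ∀ y ∈ Y, ∃ a ∈ N, α a = y := by
  have NL : closure {a | a ∈ L ∧ a * a = 1 ∧ α a ∈ Y} ≤ L := (closure_le _).2 fun a ha => ha.1
  have on : ∀ y ∈ Y, ∃ a ∈ closure {a | a ∈ L ∧ a * a = 1 ∧ α a ∈ Y}, α a = y := fun y hy =>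
    c.cov.of_closure (NL.trans le_normalizer) (fun i hi => ⟨h i, subset_closure ⟨c.hL i (hY hi.1),
      c.sq (hY hi.1) hi.2, by rw [c.αh i (hY hi.1)]; exact hi.1⟩, c.αh i (hY hi.1)⟩) (p.2 hy)
  refine ⟨_, NL, ⟨(closure_le _).2 fun a ha => ?_, (closure_le _).2 fun a ha =>
    subset_closure ⟨subset_closure ha, ha.2.1⟩⟩, rfl, fun a ha => (c.cov.mem_pre.1 ((closure_le (c.cov.pre Y)).2
      (fun a ha => c.cov.mem_pre.2 ⟨le_normalizer ha.1, ha.2.2⟩) ha)).2, on⟩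
  generalize closure {a | a ∈ L ∧ a * a = 1 ∧ α a ∈ Y} = N at NL on
  have : ⁅Y, Y⁆ ≤ c.cov.im ⁅N, N⁆ := commutator_le.2 fun y hy y' hy' => by
    obtain ⟨a, ha, rfl⟩ := on y hy
    obtain ⟨b, hb, rfl⟩ := on y' hy'
    exact c.cov.mem_im.2 ⟨⁅a, b⁆, commutator_mem_commutator ha hb, le_normalizer (commutator_le_of_le NL NL
      (commutator_mem_commutator ha hb)), cmt c.cov (le_normalizer (NL ha)) (le_normalizer (NL hb))⟩
  obtain ⟨d, hd, -, e⟩ := c.cov.mem_im.1 (this (p.1 ha.2.2))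
  obtain ⟨n, -, e1⟩ := odd_pow c.cov ha.1 (commutator_le_of_le NL NL hd) ha.2.1 e.symm
  exact e1 ▸ pow_mem hd n

end Sec

theorem exists_sec [Finite G] {J : Subgroup X} {L : Subgroup G} {α : G → X} (c : Cov J L α) :
    ∃ h, Sec J L α h := by
  have : ∀ j, ∃ a, j ∈ J → a ∈ L ∧ α a = j ∧ (P2 j → P2 a) := fun j => by
    by_cases hj : j ∈ J
    · by_cases p : P2 j
      · obtain ⟨a, h1, h2, h3⟩ := c.lift2 hj p
        exact ⟨a, fun _ => ⟨h1, h2, fun _ => h3⟩⟩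
      · obtain ⟨a, h1, h2⟩ := c.onto j hj
        exact ⟨a, fun _ => ⟨h1, h2, fun h => absurd h p⟩⟩
    · exact ⟨1, fun h => absurd h hj⟩
  choose h hh using this
  exact ⟨h, c, fun j hj => (hh j hj).1, fun j hj => (hh j hj).2.1, fun j hj => (hh j hj).2.2⟩

namespace V0
variable {F : Dy X} {t : G} {L O : Subgroup G} {α : G → X} {h : X → G} (w : V0 F t L O α h)
include w

theorem ti : t⁻¹ = t := inv_eq_of_mul_eq_one_left w.t2
theorem Lt {a : G} (ha : a ∈ L) : a * t = t * a := w.tL a ha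
theorem ht {j : X} (hj : j ∈ F.J) : h j * t = t * h j := w.Lt (w.hL j hj)
theorem cjt {l : G} (hl : l ∈ L) : l * t * l⁻¹ = t := cj_fix.2 (w.Lt hl)
theorem tN : t ∈ 𝐍(L) := w.CN t rfl
theorem at1 : α t = 1 := w.cov.cen w.tL
theorem tO : t ∉ O := fun h => w.t1 ((P2.of_sq w.t2).eq_one (w.oddO t h))
theorem LO {a o : G} (ha : a ∈ L) (ho : o ∈ O) : a * o = o * a := w.OL ho a ha
theorem hO {j : X} (hj : j ∈ F.J) {o : G} (ho : o ∈ O) : h j * o = o * h j := w.LO (w.hL j hj) ho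

theorem memO {k : G} (hk : k ∈ 𝐂(L)) (c : k * t = t * k) (o : Odd (orderOf k)) : k ∈ O := by
  refine (w.ker2 k hk c).elim id fun h => absurd ?_ w.t1
  exact (P2.of_sq w.t2).eq_one (Odd.of_dvd_nat (o.mul (w.oddO _ h)) (by
    have e : t = k⁻¹ * (k * t) := by group
    conv_lhs => rw [e]
    rw [← orderOf_inv k]
    exact Commute.orderOf_mul_dvd_mul_orderOf (Commute.inv_left (Commute.mul_right rfl c))))

theorem ZO {a : G} (ha : a ∈ L) (e : a ∈ 𝐂(L)) : a ∈ O := w.memO e (w.Lt ha) (w.cov.odd' ha e)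

theorem cjO {g o : G} (c : g * t = t * g) (ho : o ∈ O) : g * o * g⁻¹ ∈ O :=
  w.memO (conj_mem_of_mem_normalizer (normalizer_le_normalizer_centralizer L (w.CN g c)) (w.OL ho))
    (((Commute.mul_left c (w.Ot o ho)).mul_left (Commute.inv_left c) :))
    (by rw [H9.orderOf_conj]; exact w.oddO o ho)

theorem ker_P2 {k : G} (hk : k ∈ 𝐂(L)) (c : k * t = t * k) (h : P2 k) : k = 1 ∨ k = t :=
  (w.ker2 k hk c).imp (fun e => h.eq_one (w.oddO k e)) fun e => by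
    have := (h.mul (P2.of_sq w.t2) c).eq_one (w.oddO _ e)
    rw [eq_inv_of_mul_eq_one_left this, w.ti]

/-- elements of `C(t)` acting as inner automorphisms -/
theorem ovr {g : G} (c : g * t = t * g) (hJ : α g ∈ F.J) :
    ∃ o ∈ O, g = h (α g) * o ∨ g = h (α g) * t * o := by
  have ha := w.hL _ hJ
  have h1 := w.cov.inv_mul_mem (le_normalizer ha) (w.CN g c) (w.αh _ hJ)
  generalize h (α g) = a at ha h1
  rcases w.ker2 _ h1 ((Commute.inv_left (w.Lt ha)).mul_left c :) with h | h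
  · exact ⟨_, h, Or.inl (by group)⟩
  · refine ⟨_, h, Or.inr ?_⟩
    rw [mul_assoc a, ← w.Ot _ h, mul_assoc (a⁻¹ * g), w.t2]; group

theorem memLO {x : G} : x ∈ L ⊔ O ↔ ∃ a ∈ L, ∃ o ∈ O, x = a * o := mem_sup_comm fun _ ha _ ho => w.LO ha ho

theorem t_not : t ∉ L ⊔ O := fun h => by
  obtain ⟨a, ha, o, ho, e⟩ := w.memLO.1 h
  refine w.tO (e ▸ mul_mem (w.ZO ha ((w.cov.ker a (le_normalizer ha)).1 ?_)) ho)
  rw [← w.cov.mul_cen (le_normalizer ha) (w.OL ho), ← e, w.at1]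

theorem tL' : t ∉ L := fun h => w.t_not (mem_sup_left h)

theorem P2_mem {x : G} (hx : x ∈ L ⊔ O) (p : P2 x) : x ∈ L := by
  obtain ⟨a, ha, o, ho, rfl⟩ := w.memLO.1 hx
  have hJ := w.cov.mem a ha
  have p1 := w.hp _ hJ (w.cov.mul_cen (le_normalizer ha) (w.OL ho) ▸ w.cov.p2
      (mul_mem (le_normalizer ha) (centralizer_le_normalizer _ (w.OL ho))) p)
  obtain ⟨ζ, h1, h2, -, e⟩ := dif w.cov (w.hL _ hJ) ha (w.αh _ hJ)
  have m := mul_mem (w.ZO h1 h2) ho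
  rw [e, mul_assoc] at p ⊢
  rw [p1.odd_eq_one p (w.LO (w.hL _ hJ) m) (w.oddO _ m), mul_one]
  exact w.hL _ hJ

variable (H : Fx F)
include H

/-- `C(t)' ≤ L O` -/
theorem comm_le {Y : Subgroup G} (c : ∀ g ∈ Y, g * t = t * g) : ⁅Y, Y⁆ ≤ L ⊔ O := by
  have cC : ∀ {g x}, g * t = t * g → x ∈ L ⊔ O → g * x * g⁻¹ ∈ L ⊔ O := fun {g x} hg hx => by
    obtain ⟨a, ha, o, ho, rfl⟩ := w.memLO.1 hx
    rw [← conj_mul]
    exact mul_mem_sup (conj_mem_of_mem_normalizer (w.CN g hg) ha) (w.cjO hg ho)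
  have inn : ∀ {g k}, g * t = t * g → k * t = t * k → α g ∈ F.J → ⁅g, k⁆ ∈ L ⊔ O := fun {g k} hg hk hJ => by
    have key : ∀ x ∈ L ⊔ O, ⁅x, k⁆ ∈ L ⊔ O := fun x hx => by
      rw [commutatorElement_def, mul_assoc, mul_assoc, ← mul_assoc k]
      exact mul_mem hx (cC hk (inv_mem hx))
    obtain ⟨o, ho, e | e⟩ := w.ovr hg hJ
    · exact e ▸ key _ (mul_mem_sup (w.hL _ hJ) ho)
    · have := key _ (mul_mem_sup (w.hL _ hJ) ho)
      rw [e, mul_assoc, ← w.Ot o ho, ← mul_assoc]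
      convert this using 1
      simp only [commutatorElement_def, mul_inv_rev]
      calc _ = h (α g) * o * (t * k * t⁻¹) * (o⁻¹ * (h (α g))⁻¹) * k⁻¹ := by group
        _ = _ := by rw [← hk, mul_inv_cancel_right]
  refine commutator_le.2 fun g hg k hk => ?_
  by_cases gJ : α g ∈ F.J
  · exact inn (c g hg) (c k hk) gJ
  by_cases kJ : α k ∈ F.J
  · rw [← commutatorElement_inv]; exact inv_mem (inn (c k hk) (c g hg) kJ)
  have m := mul_mem (inv_mem hk) hg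
  have := cC (c k hk) (inn (c _ m) (c k hk) (by
    rw [w.cov.mul _ (inv_mem (w.CN k (c k hk))) _ (w.CN g (c g hg)), w.cov.inv (w.CN k (c k hk))]
    exact H.inv_mul_mem kJ gJ))
  convert this using 1
  simp only [commutatorElement_def]; group

theorem pf_le {Y : Subgroup G} (c : ∀ g ∈ Y, g * t = t * g) (p : Pf Y) : Y ≤ L :=
  p.2.trans ((closure_le _).2 fun _ hi => w.P2_mem (w.comm_le H c (p.1 hi.1)) (P2.of_sq hi.2))

/-- no conjugate of `t` lies in `L` -/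
theorem not_conj [Finite X] [Finite G] (g : G) : g * t * g⁻¹ ∉ L := fun hg => by
  have p := P2.of_sq (cjsq w.t2 g)
  obtain ⟨P, PJ, pP, c, m, -⟩ := H.inv_comm (w.cov.mem _ hg) (w.cov.sq (le_normalizer hg) (cjsq w.t2 g))
  obtain ⟨Q, -, -, hQ, -, -, cm⟩ := w.lift PJ pP
  have := cj_mem g⁻¹ (cm _ m)
  rw [w.hα hg p, cj_commutator, show g⁻¹ * (g * t * g⁻¹) * g⁻¹⁻¹ = t by group] at this
  refine w.t_not (w.comm_le H ?_ this)
  rintro _ ⟨x, hx, rfl⟩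
  obtain ⟨y, hy, rfl⟩ := (hQ x).1 hx
  have := cjc (j := g⁻¹) (w.comm (PJ hy) (w.cov.mem _ hg) (w.cov.p2 (le_normalizer hg) p) (c y hy))
  rw [w.hα hg p, show g⁻¹ * (g * t * g⁻¹) * g⁻¹⁻¹ = t by group] at this
  exact this

end V0

theorem eqns_Basic : True := by
  have := @Qt.hom.eq_1.{0, 0}
  trivial

end H36.SZ
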