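import Mathlib
import Cfsg.Agent.Lib.StdZ.Basic
import Cfsg.Agent.Lib.StdV.A1

/-! Standard subgroups with centre of odd order: a conjugate of an involution of `C(L)` acts as `z`. -/

set_option autoImplicit false
set_option linter.unusedSectionVars false

namespace H36.SZ

open Subgroup H69 H36.SW H36.SV
open H48.SM (Pf)
open scoped commutatorElement

variable {X : Type} [Group X] [Finite X] {G : Type*} [Group G] [Finite G] {F : Dy X}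
variable {t : G} {L O : Subgroup G} {α : G → X} {h : X → G}

namespace A1

variable {J : Subgroup X} {g k : G}

theorem nrm0 (st : A.St L) (b : A.Bad L g k) {l : G} (e : l * (g * k * g⁻¹) * l⁻¹ = g * k * g⁻¹) :
    g⁻¹ * l * g ∈ 𝐍(L) :=
  st.T _ k b.kK (P2.of_sq b.k2) b.k1 (by
    rw [show g⁻¹ * l * g * k * (g⁻¹ * l * g)⁻¹ = g⁻¹ * (l * (g * k * g⁻¹) * l⁻¹) * g by group, e]
    simpa [mul_assoc] using b.kK)

theorem nrm (st : A.St L) (c : Sec J L α h) (b : A.Bad L g k) {u : X} (hu : u ∈ J)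
    (e : u * α (g * k * g⁻¹) = α (g * k * g⁻¹) * u) : ∃ l ∈ L, α l = u ∧ g⁻¹ * l * g ∈ 𝐍(L) := by
  obtain ⟨l, hl, e1, e2⟩ := lift_cj c.cov b.sN (cjsq b.k2 g) (cjsq b.k2 g)
    (by rw [inv_mul_cancel]; exact one_mem _) hu (cj_fix.2 e)
  exact ⟨l, hl, e1, nrm0 st b e2⟩

theorem split (st : A.St L) (c : Sec J L α h) (b : A.Bad L g k) {j y : X} (hj : j ∈ J) (hy : y ∈ J)
    (y1 : y ≠ 1) (y2 : y * y = 1) (e : j * α (g * k * g⁻¹) * j⁻¹ = α (g * k * g⁻¹) * y) :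
    (∃ g k, A.Bad L g k ∧ α (g * k * g⁻¹) = y) ∨
      ∃ x, A.Bad L x k ∧ α (x * k * x⁻¹) = α (g⁻¹ * h y * g) := by
  obtain ⟨s, hs⟩ : ∃ s, s = g * k * g⁻¹ := ⟨_, rfl⟩
  have sN : s ∈ 𝐍(L) := hs ▸ b.sN
  have s2 : s * s = 1 := hs ▸ cjsq b.k2 g
  rw [← hs] at e
  have a2 := c.cov.sq sN s2
  have cy : α s * y = y * α s := by
    have h1 := cjsq a2 j
    rw [e] at h1
    rw [← inv_eq_of_mul_eq_one_left h1, mul_inv_rev, inv_eq_of_mul_eq_one_left y2,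
      inv_eq_of_mul_eq_one_left a2]
  have cs := c.comm_of sN hy (P2.of_sq y2) cy
  have yN : g⁻¹ * h y * g ∈ 𝐍(L) := nrm0 st b (hs ▸ cj_fix.2 cs.symm)
  obtain ⟨l, -, -, e0⟩ := lift_cj c.cov (s' := s * h y) sN s2
    (by rw [Commute.mul_mul_mul_comm (show Commute (h y) s from cs.symm), s2, c.sq hy y2, one_mul])
    (by rw [inv_mul_cancel_left]; exact c.hL y hy) hj
    (by rw [e, c.cov.mul _ sN _ (c.hN hy), c.αh y hy])
  obtain ⟨x, hx⟩ : ∃ x, x * k * x⁻¹ = k * (g⁻¹ * h y * g) := ⟨g⁻¹ * l * g, by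
    calc _ = g⁻¹ * (l * (g * k * g⁻¹) * l⁻¹) * g := by group
      _ = _ := by rw [← hs, e0, hs]; group⟩
  have e2 : g * (g⁻¹ * h y * g) * g⁻¹ = h y := by group
  by_cases xN : x ∈ 𝐍(L)
  · refine Or.inl ⟨g, g⁻¹ * h y * g, ⟨b.gN, ?_, ?_, cjne' (c.ne hy y1) g, by rw [e2]; exact c.hN hy⟩,
      by rw [e2, c.αh y hy]⟩
    · have := conj_mem_of_mem_normalizer (normalizer_le_normalizer_centralizer L xN) b.kK
      rw [hx] at this
      exact (mul_mem_cancel_left b.kK).1 this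
    · simpa using cjsq (c.sq hy y2) g⁻¹
  · exact Or.inr ⟨x, ⟨xN, b.kK, b.k2, b.k1, hx ▸ mul_mem (centralizer_le_normalizer _ b.kK) yN⟩,
      by rw [hx, c.cov.cen_mul yN b.kK]⟩

theorem step1 (H : Fx F) (st : A.St L) (c : Sec F.J L α h) (b : A.Bad L g k) :
    ∃ g k, A.Bad L g k ∧ α (g * k * g⁻¹) ∈ F.J := by
  by_cases hJ : α (g * k * g⁻¹) ∈ F.J
  · exact ⟨g, k, b, hJ⟩
  have x2 := c.cov.sq b.sN (cjsq b.k2 g)
  obtain ⟨⟨u, hu, v, hv, eu, ev, y1, j, hj, e⟩, -⟩ := H.outAll hJ x2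
  obtain ⟨u', uL, au, uN⟩ := nrm st c b hu eu
  obtain ⟨v', vL, av, vN⟩ := nrm st c b hv ev
  have y2 : ⁅u, v⁆ * ⁅u, v⁆ = 1 := by
    have h1 := cjsq x2 j
    have h2 : Commute ⁅u, v⁆ (α (g * k * g⁻¹)) :=
      ((Commute.mul_left eu ev).mul_left (Commute.inv_left eu)).mul_left (Commute.inv_left ev)
    rwa [e, h2.mul_mul_mul_comm, x2, one_mul] at h1
  have yJ := H.comm_mem u v
  obtain ⟨n, -, en⟩ := odd_pow c.cov (b := ⁅u', v'⁆) (c.hL _ yJ)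
    (mul_mem (mul_mem (mul_mem uL vL) (inv_mem uL)) (inv_mem vL)) (c.sq yJ y2)
    (by rw [c.αh _ yJ, cmt c.cov (le_normalizer uL) (le_normalizer vL), au, av])
  have e3 : g⁻¹ * h ⁅u, v⁆ * g = ⁅g⁻¹ * u' * g, g⁻¹ * v' * g⁆ ^ n := by
    have := conj_pow (a := g⁻¹) (b := ⁅u', v'⁆) (i := n)
    rw [inv_inv] at this
    rw [← en, ← this]
    congr 1
    simp only [commutatorElement_def]; group
  rcases split st c b hj yJ y1 y2 e with ⟨g, k, b, e⟩ | ⟨x, b, e⟩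
  · exact ⟨g, k, b, e ▸ yJ⟩
  · refine ⟨x, k, b, ?_⟩
    rw [e, e3, c.cov.pow (show ⁅g⁻¹ * u' * g, g⁻¹ * v' * g⁆ ∈ 𝐍(L) from
      mul_mem (mul_mem (mul_mem uN vN) (inv_mem uN)) (inv_mem vN)), cmt c.cov uN vN]
    exact pow_mem (H.comm_mem _ _) n

theorem step2 (H : Fx F) (st : A.St L) (c : Sec F.J L α h) (b : A.Bad L g k)
    (hJ : α (g * k * g⁻¹) ∈ F.J) : ∃ g k, A.Bad L g k ∧ F.Zc (α (g * k * g⁻¹)) := by
  rcases H.inv hJ (c.cov.sq b.sN (cjsq b.k2 g)) with e | e | e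
  · exact absurd e (H36.SV.A1.ne st c.cov b)
  · exact ⟨g, k, b, e⟩
  rcases H.p8 with hb | ⟨h8, v, hv, vb, v4, j, hj, ej⟩
  · exact ⟨g, k, b, e.zc hb⟩
  obtain ⟨i, hi, e⟩ := e
  obtain ⟨g, b, e⟩ := H36.SV.A1.move c.cov b hi e
  obtain ⟨m, mo, mp⟩ := exists_odd_P2 v
  have hw := pow_mem hv m
  have cw : α (g * k * g⁻¹) * v ^ m = v ^ m * α (g * k * g⁻¹) := by
    rw [e]; exact ((Commute.pow_left vb m).symm :)
  have wN := nrm0 st b (cj_fix.2 (c.comm_of b.sN hw mp cw).symm)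
  have e4 : h (v ^ 4) = h (v ^ m) ^ 4 := by
    rw [← c.hα (pow_mem (c.hL _ hw) 4) ((c.hp _ hw mp).pow 4), c.cov.pow (c.hN hw), c.αh _ hw,
      ← pow_mul, mul_comm, pow_mul, pow_odd_of_sq (H.Zc_sq v4) mo]
  have e3 : g⁻¹ * h (v ^ 4) * g = (g⁻¹ * h (v ^ m) * g) ^ 4 := by
    have := conj_pow (a := g⁻¹) (b := h (v ^ m)) (i := 4)
    rw [inv_inv] at this
    rw [e4, this]
  rcases split st c b hj (pow_mem hv 4) (H.Zc_ne v4) (H.Zc_sq v4) (e ▸ ej) with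
    ⟨g, k, b, e⟩ | ⟨x, b', e'⟩
  · exact ⟨g, k, b, e ▸ v4⟩
  refine ⟨x, k, b', ?_⟩
  have n1 := H36.SV.A1.ne st c.cov b'
  have n2 := c.cov.sq b'.sN (cjsq b'.k2 x)
  rw [e', e3, c.cov.pow wN] at n1 n2 ⊢
  generalize α (g⁻¹ * h (v ^ m) * g) = w at n1 n2
  have w8 : w ^ 8 = 1 := by rw [← n2, ← pow_add]
  obtain ⟨i, hi, m⟩ := H.cjTs' (x := w) ⟨3, w8⟩
  rcases h8 _ m (by rw [conj_pow, w8]; group) with e | e <;> rw [conj_pow] at e
  · exact absurd e (cjne n1 i)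
  · exact e.of_cj hi

end A1

theorem exists_bad (H : Fx F) (hF : IsSimpleGroup (Cfsg.generalizedFittingSubgroup G))
    (hL : Cfsg.IsStandardSubgroup L) (h0 : L ≤ Cfsg.generalizedFittingSubgroup G) (c : Sec F.J L α h) :
    ∃ g k, A.Bad L g k ∧ α (g * k * g⁻¹) = F.z := by
  have st := A.St.of hL
  obtain ⟨g, k, b⟩ := H36.SV.A1.step0 H hF hL h0 c.cov
  obtain ⟨g, k, b, hJ⟩ := A1.step1 H st c b
  obtain ⟨g, k, b, j, hj, e⟩ := A1.step2 H st c b hJ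
  obtain ⟨g, b, e⟩ := H36.SV.A1.move c.cov b hj e
  exact ⟨g, k, b, e⟩

end H36.SZ
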