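import Mathlib
import Cfsg.Agent.Lib.StdZ.Basic
import Cfsg.Agent.Lib.PGroup.Basic

/-! Covers of odd centre: images of the preimage of `C_J(z)` centralised by a group of order four. -/

set_option autoImplicit false
set_option linter.unusedSectionVars false

namespace H36.SZ

open Subgroup H69 H36.SW H36.SV
open H48.SM (Pf)
open scoped commutatorElement

variable {X : Type} [Group X] [Finite X] {G : Type*} [Group G] [Finite G] {F : Dy X}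
variable {t : G} {L O : Subgroup G} {α : G → X} {h : X → G}

namespace A2

/-- the counting argument, in an arbitrary finite group mapping to `X` -/
theorem core (H : Fx F) (ρ : G →* X) (T Z : Subgroup G) (pT : IsPGroup 2 T)
    (cT : Nat.card T = Nat.card F.T) (cZ : Nat.card Z ≤ 2)
    (lemN : ∀ x ∈ T, (∀ d, ρ ⁅x, d⁆ = 1) → (∀ τ ∈ T, ⁅x, τ⁆ ∈ Z) → x ∈ Z)
    (P : Subgroup X) (pP : IsPGroup 2 P) (ab : ∀ a ∈ P, ∀ a' ∈ P, a * a' = a' * a) (c4 : 4 ≤ Nat.card P)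
    (cP : ∀ a ∈ P, ∀ d, a * ρ d = ρ d * a) : False := by
  have ha : T ⊓ ρ.ker ≤ Z := by
    by_contra hn
    obtain ⟨x, ⟨hx, hk⟩, hz, -, h⟩ := H5.exists_step_of_le pT Z inf_le_left
      (le_normalizer_inf le_normalizer (le_top.trans (normal_iff_top_le_normalizer.1 inferInstance))) hn
    exact hz (lemN x hx (fun d => by
      rw [map_commutatorElement, show ρ x = 1 from hk, commutatorElement_one_left]) h)
  have hb : P.comap ρ ⊓ T ≤ Z := fun x hx => by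
    have h1 : ∀ d, ρ ⁅x, d⁆ = 1 := fun d => by
      rw [map_commutatorElement]; exact commutatorElement_eq_one_iff_mul_comm.2 (cP _ hx.1 d)
    exact lemN x hx.2 h1 fun τ hτ => ha ⟨commutator_le_of_le le_rfl le_rfl
      (commutator_mem_commutator hx.2 hτ), h1 _⟩
  obtain ⟨U, hU⟩ : ∃ U, U = T.map ρ := ⟨_, rfl⟩
  have cU : ∀ a ∈ U, ∀ b ∈ P, a * b = b * a := fun a ha b hb => by
    rw [hU] at ha
    obtain ⟨d, -, rfl⟩ := ha
    exact (cP b hb d).symm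
  have nU : U ≤ 𝐍(P) := le_normalizer_of_le_centralizer fun a ha b hb => (cU a ha b hb).symm
  have e1 := H1.card_map_mul_card_inf_ker ρ T
  have e2 := H1.card_map_mul_card_inf_ker ρ (P.comap ρ ⊓ T)
  have e3 := H1.card_sup_mul_card_inf_of_le_normalizer nU
  have e4 := (card_le_of_le hb).trans cZ
  have e5 : (P.comap ρ ⊓ T).map ρ = U ⊓ P := by
    rw [hU]
    exact le_antisymm (fun _ ⟨x, hx, e⟩ => e ▸ ⟨⟨x, hx.2, rfl⟩, hx.1⟩)
      fun _ ⟨⟨x, hx, e⟩, hy⟩ => ⟨x, ⟨show ρ x ∈ P from e ▸ hy, hx⟩, e⟩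
  have e6 : ρ.ker ⊓ (P.comap ρ ⊓ T) = ρ.ker ⊓ T := by
    rw [← inf_assoc, inf_eq_left.2 (ker_le_comap ρ P)]
  rw [e5, e6] at e2
  rw [← e2] at e4
  rw [← hU, cT] at e1
  have pU : IsPGroup 2 U := hU ▸ pT.map ρ
  obtain ⟨j, -, hj⟩ := H.cjTs (isPGroup_sup_of_le_normalizer_right pU pP nU)
  have e7 : (U ⊔ P) ^ᶜ j = F.Ts := eq_of_le_of_card_ge hj (by
    rw [card_cj, H.cardTs, ← e1]
    generalize Nat.card (U ⊔ P : Subgroup X) = a at *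
    generalize Nat.card (U ⊓ P : Subgroup X) = i at *
    generalize Nat.card (ρ.ker ⊓ T : Subgroup G) = k at *
    have h1 : a * (i * k) ≤ a * 2 := Nat.mul_le_mul_left _ e4
    have h2 : Nat.card U * 4 * k ≤ Nat.card U * Nat.card P * k :=
      Nat.mul_le_mul_right _ (Nat.mul_le_mul_left _ c4)
    rw [← mul_assoc, e3] at h1
    nlinarith)
  have e8 : P ^ᶜ j ≤ zpowers F.z := fun _ ⟨a, ha, e⟩ => e ▸ (mem_zp H.z2).2 (H.ctr _
    (hj (cj_mem j (mem_sup_right ha))) fun τ hτ => by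
      obtain ⟨y, hy, rfl⟩ := mem_cj'.1 (e7.ge hτ.1)
      obtain ⟨u, hu, b, hb, rfl⟩ := (mem_sup_comm cU).1 hy
      exact cjc (Commute.mul_right (cU u hu a ha).symm (ab a ha b hb)))
  have := card_le_of_le e8
  rw [card_cj, card_zp H.z2 H.z1] at this
  omega

end A2

/-- package A2, file Lib/StdZ/A2 -/
theorem cen4 (H : Fx F) (m : F.Mode1) (c : Sec F.J L α h) (ρ : G → X)
    (hρ : ∀ a ∈ L, α a ∈ F.D → ∀ b ∈ L, α b ∈ F.D → ρ (a * b) = ρ a * ρ b) (P : Subgroup X)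
    (pP : IsPGroup 2 P) (ab : ∀ a ∈ P, ∀ a' ∈ P, a * a' = a' * a) (c4 : 4 ≤ Nat.card P)
    (cP : ∀ a ∈ P, ∀ l ∈ L, α l ∈ F.D → a * ρ l = ρ l * a) : ∃ d ∈ F.D, F.Ty F.z d ∧ ρ (h d) = 1 := by
  by_contra hn
  obtain ⟨E, hE⟩ : ∃ E : Subgroup G, ∀ g, g ∈ E ↔ g ∈ L ∧ α g ∈ F.D :=
    ⟨L ⊓ c.cov.pre F.D, fun g => ⟨fun hg => ⟨hg.1, (c.cov.mem_pre.1 hg.2).2⟩,
      fun hg => ⟨hg.1, c.cov.mem_pre.2 ⟨le_normalizer hg.1, hg.2⟩⟩⟩⟩
  have EL : ∀ x : E, (x : G) ∈ L := fun x => ((hE x).1 x.2).1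
  have ED : ∀ x : E, α x ∈ F.D := fun x => ((hE x).1 x.2).2
  have hE' : ∀ {d}, d ∈ F.D → h d ∈ E := fun {d} hd =>
    (hE _).2 ⟨c.hL d (Dy.DJ hd), by rwa [c.αh d (Dy.DJ hd)]⟩
  obtain ⟨ρ', hρ'⟩ : ∃ ρ' : E →* X, ∀ x, ρ' x = ρ x :=
    ⟨MonoidHom.mk' (fun x => ρ x) fun a b => hρ a (EL a) (ED a) b (EL b) (ED b), fun _ => rfl⟩
  obtain ⟨T, TL, pT, mT, cT, mul, -⟩ := c.lift Dy.TJ H.pT
  have TE : T ≤ E := fun g hg => by
    obtain ⟨y, hy, rfl⟩ := (mT g).1 hg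
    exact hE' (H.TD hy)
  have z2 := c.sq H.zJ H.z2
  refine A2.core H ρ' (T.subgroupOf E) ((zpowers (h F.z)).subgroupOf E) (isPGroup_subgroupOf pT _)
    (by rw [card_subgroupOf TE, cT]) (by
      rw [card_subgroupOf (zpowers_le.2 (hE' (H.TD H.zT))), card_zp z2 (c.ne H.zJ H.z1)])
    (fun x hx h1 h2 => ?_) P pP ab c4 fun a ha d => by rw [hρ']; exact cP a ha d (EL d) (ED d)
  obtain ⟨y, hy, e⟩ := (mT x).1 hx
  have yJ := Dy.TJ hy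
  have h3 : ∀ τ ∈ F.T, τ * y * τ⁻¹ = y ∨ τ * y * τ⁻¹ = y * F.z := fun τ hτ => by
    have e1 : α ⁅(x : G), h τ⁆ = ⁅y, τ⁆ := by
      rw [cmt c.cov (le_normalizer (EL x)) (c.hN (Dy.TJ hτ)), ← e, c.αh y yJ, c.αh τ (Dy.TJ hτ)]
    have e2 : ⁅(x : G), h τ⁆ ∈ zpowers (h F.z) :=
      h2 ⟨h τ, hE' (H.TD hτ)⟩ ((mT _).2 ⟨τ, hτ, rfl⟩)
    rcases (mem_zp z2).1 e2 with e3 | e3 <;> rw [e3] at e1
    · rw [c.cov.one] at e1
      exact Or.inl (cj_fix.2 (commutatorElement_eq_one_iff_mul_comm.1 e1.symm).symm)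
    · rw [c.αh _ H.zJ] at e1
      right
      calc τ * y * τ⁻¹ = ⁅y, τ⁆⁻¹ * y := by rw [commutatorElement_def]; group
        _ = _ := by rw [← e1, inv_eq_of_mul_eq_one_left H.z2, H.cT y hy.1]
  rw [mem_subgroupOf, ← e]
  rcases m.2.2 y hy h3 with e1 | e1 | ⟨d, hd, e1⟩
  · rw [e1, c.one]; exact one_mem _
  · rw [e1]; exact mem_zpowers _
  · have zc := H.Ty2 e1
    have m1 : ⁅(x : G), h d⁆ ∈ L :=
      commutator_le_of_le le_rfl le_rfl (commutator_mem_commutator (EL x) (c.hL d (Dy.DJ hd)))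
    obtain ⟨n, -, e2⟩ := odd_pow c.cov (c.hL _ (H.Zc_mem zc)) m1 (c.sq (H.Zc_mem zc) (H.Zc_sq zc)) (by
      rw [c.αh _ (H.Zc_mem zc), cmt c.cov (le_normalizer (EL x)) (c.hN (Dy.DJ hd)), ← e, c.αh y yJ,
        c.αh d (Dy.DJ hd)])
    refine absurd ⟨_, commutator_le_of_le le_rfl le_rfl (commutator_mem_commutator (H.TD hy) hd), e1, ?_⟩ hn
    have e3 : ρ' (⁅x, ⟨h d, hE' hd⟩⁆ ^ n) = 1 := by rw [map_pow, h1, one_pow]
    rw [hρ'] at e3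
    rw [← e2]
    exact e3

end H36.SZ
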