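import Mathlib
import Cfsg.Agent.Lib.StdZ.Basic

/-! The fusion `t ~ t ẑ` is induced by an element that centralises `O` (covers). -/

set_option autoImplicit false
set_option linter.unusedSectionVars false

namespace H36.SZ

open Subgroup H69 H36.SW H36.SV
open H48.SM (Pf)
open scoped commutatorElement

variable {X : Type} [Group X] [Finite X] {G : Type*} [Group G] [Finite G] {F : Dy X}
variable {t : G} {L O : Subgroup G} {α : G → X} {h : X → G}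

namespace C1

/-- the canonical lift of `M` -/
structure Hat (F : Dy X) (L : Subgroup G) (α : G → X) (N : Subgroup G) : Prop where
  le : N ≤ L
  pf : Pf N
  eq : N = closure {a | a ∈ L ∧ a * a = 1 ∧ α a ∈ F.M}
  im : ∀ a ∈ N, α a ∈ F.M
  on : ∀ y ∈ F.M, ∃ a ∈ N, α a = y

variable {N : Subgroup G}

theorem hN (H : Fx F) (w : V0 F t L O α h) (n : Hat F L α N) {y : X} (hy : y ∈ F.M) (p : P2 y) : h y ∈ N := by
  obtain ⟨a, ha, e⟩ := n.on y hy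
  have hL := w.hL y (H.MJ hy)
  obtain ⟨ζ, -, zc, o, e2⟩ := dif w.cov hL (n.le ha) ((w.αh y (H.MJ hy)).trans e.symm)
  have e3 : a ^ orderOf ζ = h y ^ orderOf ζ := by
    rw [e2, Commute.mul_pow (zc _ hL), pow_orderOf_eq_one, mul_one]
  obtain ⟨k, hk⟩ := w.hp y (H.MJ hy) p
  exact zpowers_le.2 (e3 ▸ pow_mem ha _) (mem_zpowers_pow_iff.2
    (Nat.Coprime.coprime_dvd_right (orderOf_dvd_of_pow_eq_one hk) (o.coprime_two_right.pow_right k)))

theorem Nz (H : Fx F) (w : V0 F t L O α h) (n : Hat F L α N) {a : G} (ha : a ∈ N) : a * h F.z = h F.z * a :=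
  w.comm_of (le_normalizer (n.le ha)) H.zJ (P2.of_sq H.z2) (Dy.Dz (H.MD (n.im a ha)))

theorem tz (H : Fx F) (w : V0 F t L O α h) {g : G} (gt : g * t * g⁻¹ = t * h F.z)
    (gz : g * h F.z = h F.z * g) : g * (t * h F.z) * g⁻¹ = t := by
  rw [← conj_mul, gt, cj_fix.2 gz, mul_assoc, w.sq H.zJ H.z2, mul_one]

theorem inv_t (H : Fx F) (w : V0 F t L O α h) {g : G} (gt : g * t * g⁻¹ = t * h F.z)
    (gz : g * h F.z = h F.z * g) : g⁻¹ * t * g⁻¹⁻¹ = t * h F.z := by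
  conv_lhs => rw [← tz H w gt gz]
  group

theorem ha (H : Fx F) (w : V0 F t L O α h) (n : Hat F L α N) {g : G} (gt : g * t * g⁻¹ = t * h F.z) :
    N ^ᶜ g⁻¹ ≤ L := by
  refine w.pf_le H ?_ (n.pf.cj _)
  rintro _ ⟨a, hm, rfl⟩
  have e : a * (g * t * g⁻¹) = g * t * g⁻¹ * a := by
    rw [gt, ← mul_assoc, w.Lt (n.le hm), mul_assoc, Nz H w n hm, mul_assoc]
  have := cjc (j := g⁻¹) e
  rwa [show g⁻¹ * (g * t * g⁻¹) * g⁻¹⁻¹ = t by group] at this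

theorem step_a (H : Fx F) (m : F.Mode1) (w : V0 F t L O α h) (n : Hat F L α N) {g : G}
    (gt : g * t * g⁻¹ = t * h F.z) :
    ∃ k, k * t * k⁻¹ = t * h F.z ∧ k * h F.z = h F.z * k ∧ k ∈ 𝐍(N) := by
  have z2 := P2.of_sq H.z2
  have aL := ha H w n gt (cj_mem g⁻¹ (hN H w n H.zM z2))
  have a2 := cjsq (w.sq H.zJ H.z2) g⁻¹
  have a1 : α (g⁻¹ * h F.z * g⁻¹⁻¹) ≠ 1 := fun e =>
    cjne (w.ne H.zJ H.z1) _ (w.cov.eq_one aL (P2.of_sq a2) e)
  have b2 := w.cov.sq (le_normalizer aL) a2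
  obtain ⟨j, hj, e⟩ : F.Zc (α (g⁻¹ * h F.z * g⁻¹⁻¹)) := by
    obtain ⟨P, -, pP, hP, cP, -⟩ := w.lift Dy.TJ H.pT
    have PN : P ≤ N := fun x hx => by
      obtain ⟨y, hy, rfl⟩ := (hP x).1 hx
      exact hN H w n (m.2.1 (H.TD hy)) (H.P2T hy.1)
    have EL : P ^ᶜ g⁻¹ ≤ L := (cj_mono _ PN).trans (ha H w n gt)
    refine (H.zc_of_card (w.cov.isP_im (isPGroup_cj pP g⁻¹)) ?_ ?_ (P2.of_sq b2) ?_).resolve_left a1
    · intro x hx
      obtain ⟨e, he, -, rfl⟩ := w.cov.mem_im.1 hx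
      exact w.cov.mem e (EL he)
    · have := w.cov.card_im (EL.trans le_normalizer)
      rw [card_cj, cP, show P ^ᶜ g⁻¹ ⊓ 𝐂(L) = ⊥ from (eq_bot_iff_forall _).2 fun x hx =>
        w.cov.eq_one (EL hx.1) (P2.of_mem (isPGroup_cj pP g⁻¹) hx.1) (w.cov.cen hx.2), card_bot,
        mul_one] at this
      exact this.le
    · intro x hx
      obtain ⟨_, ⟨a, ha, rfl⟩, hn, rfl⟩ := w.cov.mem_im.1 hx
      exact w.cov.comm (le_normalizer aL) hn (cjc (Nz H w n (PN ha)).symm)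
  have e1 : h j * h F.z * (h j)⁻¹ = g⁻¹ * h F.z * g⁻¹⁻¹ := by
    rw [← w.cj hj H.zJ z2, e, w.hα aL (P2.of_sq a2)]
  have gz : g * h j * h F.z = h F.z * (g * h j) := by
    calc g * h j * h F.z = g * (h j * h F.z * (h j)⁻¹) * h j := by group
      _ = _ := by rw [e1]; group
  have gt' : g * h j * t * (g * h j)⁻¹ = t * h F.z := by
    rw [← gt, mul_assoc g, w.ht hj]; group
  refine ⟨g * h j, gt', gz, ?_⟩
  generalize g * h j = k at gz gt'
  have h3 : N ≤ N ^ᶜ k := by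
    refine n.eq.le.trans ((closure_le _).2 fun a ha' => mem_cj.2 ?_)
    have aN : a ∈ N := n.eq.ge (subset_closure ha')
    have xL := ha H w n gt' (cj_mem k⁻¹ aN)
    have c := cjc (j := k⁻¹) (Nz H w n aN)
    rw [cj_fix.2 (show Commute k (h F.z) from gz).inv_left.eq] at c
    have s2 := cjsq ha'.2.1 k⁻¹
    rw [inv_inv] at xL c s2
    exact n.eq.ge (subset_closure ⟨xL, s2, m.2.1 (Dy.mem_D.2 ⟨w.cov.mem _ xL,
      w.of_comm (le_normalizer xL) H.zJ c⟩)⟩)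
  exact inv_mem_iff.1 (mem_normalizer_fintype fun x hx => by
    rw [inv_inv]; exact mem_cj.1 (h3 hx))

theorem step_b (H : Fx F) (w : V0 F t L O α h) (n : Hat F L α N) {g : G} (gt : g * t * g⁻¹ = t * h F.z)
    (gz : g * h F.z = h F.z * g) (gM : g ∈ 𝐍(N)) {o : G} (ho : o ∈ O) :
    g * o * g⁻¹ ∈ O := by
  have c : g * o * g⁻¹ * t = t * (g * o * g⁻¹) := by
    have := cjc (j := g) (show o * (t * h F.z) = t * h F.z * o by
      rw [← mul_assoc, w.Ot o ho, mul_assoc, ← w.hO H.zJ ho, mul_assoc])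
    rwa [tz H w gt gz] at this
  have od : Odd (orderOf (g * o * g⁻¹)) := by rw [H9.orderOf_conj]; exact w.oddO o ho
  have hn := w.CN _ c
  refine w.memO ((w.cov.ker _ hn).1 ((H.P2Z0 (H.cM _ fun m hm => ?_)).eq_one
    (od.of_dvd_nat (orderOf_dvd_of_pow_eq_one ?_)))) c od
  · obtain ⟨a, ha, rfl⟩ := n.on m hm
    refine w.cov.comm hn (le_normalizer (n.le ha)) ?_
    have := w.LO (n.le (conj_mem_of_mem_normalizer' gM ha)) ho
    calc g * o * g⁻¹ * a = g * (o * (g⁻¹ * a * g)) * g⁻¹ := by group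
      _ = _ := by rw [← this]; group
  · rw [← w.cov.pow hn, pow_orderOf_eq_one, w.cov.one]

theorem step_c (H : Fx F) (w : V0 F t L O α h) (n : Hat F L α N) {g : G} (gz : g * h F.z = h F.z * g)
    (gM : g ∈ 𝐍(N)) (gO : ∀ o ∈ O, g * o * g⁻¹ ∈ O) (gO' : ∀ o ∈ O, g⁻¹ * o * g⁻¹⁻¹ ∈ O) :
    ∃ x, x * F.z = F.z * x ∧ g * h F.q * g⁻¹ = h (x * F.q * x⁻¹) := by
  choose! la h1 h2 using n.on
  have hM : ∀ a ∈ N, g * a * g⁻¹ ∈ N := fun a ha => conj_mem_of_mem_normalizer gM ha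
  have key : ∀ a ∈ N, α (g * la (α a) * g⁻¹) = α (g * a * g⁻¹) := fun a ha => by
    have b1 := h1 _ (n.im a ha)
    obtain ⟨ζ, z1, z2, -, e⟩ := dif w.cov (n.le b1) (n.le ha) (h2 _ (n.im a ha))
    conv_rhs => rw [e, ← conj_mul, w.cov.mul_cen (le_normalizer (n.le (hM _ b1))) (w.OL (gO _ (w.ZO z1 z2)))]
  have q2 := P2.of_sq (H.Zc_sq H.Zq)
  have qN := hN H w n H.qM q2
  obtain ⟨x, xz, hx⟩ := H.autM (fun m => α (g * la m * g⁻¹)) (fun a ha => n.im _ (hM _ (h1 a ha)))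
    (fun a ha b hb => by
      have := key _ (mul_mem (h1 a ha) (h1 b hb))
      rw [w.cov.mul' (n.le (h1 a ha)) (n.le (h1 b hb)), h2 a ha, h2 b hb] at this
      rw [this, ← conj_mul, w.cov.mul' (n.le (hM _ (h1 a ha))) (n.le (hM _ (h1 b hb)))])
    (fun a ha e => by
      have aL := n.le (hM _ (h1 a ha))
      have := w.cov.cen (w.OL (gO' _ (w.ZO aL ((w.cov.ker _ (le_normalizer aL)).1 e))))
      rwa [show g⁻¹ * (g * la a * g⁻¹) * g⁻¹⁻¹ = la a by group, h2 a ha] at this)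
    (by
      have := key _ (hN H w n H.zM (P2.of_sq H.z2))
      rwa [cj_fix.2 gz, w.αh _ H.zJ] at this)
  refine ⟨x, xz, ?_⟩
  have := key _ qN
  rw [w.αh _ H.qJ] at this
  rw [← hx _ H.qM, this, w.hα (n.le (hM _ qN)) ((w.hp _ H.qJ q2).conj g)]

end C1

theorem V0.cenO (H : Fx F) (m : F.Mode1) (w : V0 F t L O α h) {g : G} (gt : g * t * g⁻¹ = t * h F.z) :
    ∃ k, k * t * k⁻¹ = t * h F.z ∧ ∀ o ∈ O, k * o = o * k := by
  obtain ⟨N, n1, n2, n3, n4, n5⟩ := w.hat H.MJ H.pfM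
  have n : C1.Hat F L α N := ⟨n1, n2, n3, n4, n5⟩
  have z2 := P2.of_sq H.z2
  obtain ⟨g, gt, gz, gM⟩ := C1.step_a H m w n gt
  have gO' : ∀ o ∈ O, g⁻¹ * o * g⁻¹⁻¹ ∈ O := fun o ho => C1.step_b H w n (C1.inv_t H w gt gz)
    (show Commute g (h F.z) from gz).inv_left.eq (inv_mem gM) ho
  obtain ⟨x, xz, hx⟩ := C1.step_c H w n gz gM (fun o ho => C1.step_b H w n gt gz gM ho) gO'
  obtain ⟨σ, hσ, e1, -⟩ := H.sg
  obtain ⟨j, hj, e⟩ := H.Zc_cj H.Zzq x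
  refine ⟨(h j)⁻¹ * (g * h σ * g⁻¹), ?_, fun o ho => ?_⟩
  · have c := cjc (j := x) H.qz.symm
    rw [cj_fix.2 xz] at c
    have e2 : g * h σ * g⁻¹ * t * (g * h σ * g⁻¹)⁻¹ = h j * (t * h F.z) * (h j)⁻¹ := by
      calc _ = g * (h σ * (g⁻¹ * t * g⁻¹⁻¹) * (h σ)⁻¹) * g⁻¹ := by group
        _ = t * h F.z * h (x * F.q * x⁻¹) := by
          rw [C1.inv_t H w gt gz, ← conj_mul (b := h σ), w.cjt (w.hL σ hσ), ← w.cj hσ H.zJ z2, e1,
            ← conj_mul, gt, hx]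
        _ = _ := by
          rw [← conj_mul, w.cjt (w.hL j hj), ← w.cj hj H.zJ z2, e, ← conj_mul, cj_fix.2 xz,
            w.mul H.zJ (H.cjJ H.qJ x) z2 ((P2.of_sq (H.Zc_sq H.Zq)).conj x) c, mul_assoc]
    calc _ = (h j)⁻¹ * (g * h σ * g⁻¹ * t * (g * h σ * g⁻¹)⁻¹) * h j := by group
      _ = _ := by rw [e2]; group
  · have h1 := w.hO hσ (gO' o ho)
    refine (Commute.mul_left (Commute.inv_left (w.hO hj ho)) ?_).eq
    calc g * h σ * g⁻¹ * o = g * (h σ * (g⁻¹ * o * g⁻¹⁻¹)) * g⁻¹ := by group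
      _ = _ := by rw [h1]; group

end H36.SZ
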