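import Mathlib
import Cfsg.Agent.Lib.StdZ.Basic

/-! Standard subgroups with centre of odd order: passing to the quotient by the centre. -/

set_option autoImplicit false
set_option linter.unusedSectionVars false

namespace H36.SZ

open Subgroup H69 H36.SW H36.SV
open H48.SM (Pf)
open scoped commutatorElement

variable {X : Type} [Group X] [Finite X] {G : Type*} [Group G] [Finite G] {F : Dy X}
variable {t : G} {L O : Subgroup G} {α : G → X} {h : X → G}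

namespace Q

variable {K : Type*} [Group K] [Finite K] {p : G → K} {L' : Subgroup K}

theorem exists_im (q : Qt L p) {A : Subgroup G} (hA : A ≤ 𝐂(L ⊓ 𝐂(L))) :
    ∃ A' : Subgroup K, ∀ y, y ∈ A' ↔ ∃ a ∈ A, p a = y :=
  ⟨(A.subgroupOf 𝐂(L ⊓ 𝐂(L))).map q.hom, fun _ =>
    ⟨fun ⟨a, ha, e⟩ => ⟨a, ha, e⟩, fun ⟨a, ha, e⟩ => ⟨⟨a, hA ha⟩, ha, e⟩⟩⟩

variable (q : Qt L p) (hL : ∀ y, y ∈ L' ↔ ∃ l ∈ L, p l = y)
include q hL

theorem k1 {x : G} (hx : x ∈ 𝐂(L ⊓ 𝐂(L))) : p x ∈ L' ↔ x ∈ L := by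
  refine ⟨fun e => ?_, fun e => (hL _).2 ⟨x, e, rfl⟩⟩
  obtain ⟨l, hl, e⟩ := (hL _).1 e
  exact (L.mul_mem_cancel_left (inv_mem hl)).1 ((q.eq_iff (Qt.LC hl) hx).1 e).1

theorem k2 {x : G} (hx : x ∈ 𝐂(L ⊓ 𝐂(L))) : p x ∈ 𝐍(L') ↔ x ∈ 𝐍(L) := by
  refine ⟨fun e => mem_normalizer_fintype fun g hg => ?_, fun e => mem_normalizer_fintype fun y hy => ?_⟩
  · refine (k1 q hL (mul_mem (mul_mem hx (Qt.LC hg)) (inv_mem hx))).1 ?_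
    rw [q.conj hx (Qt.LC hg)]
    exact conj_mem_of_mem_normalizer e ((hL _).2 ⟨g, hg, rfl⟩)
  · obtain ⟨l, hl, rfl⟩ := (hL _).1 hy
    rw [← q.conj hx (Qt.LC hl)]
    exact (hL _).2 ⟨_, conj_mem_of_mem_normalizer e hl, rfl⟩

theorem k4 (pf : L ≤ ⁅L, L⁆) {x : G} (hx : x ∈ 𝐂(L ⊓ 𝐂(L))) : p x ∈ 𝐂(L') ↔ x ∈ 𝐂(L) := by
  refine ⟨fun e => mem_cent_of_perf pf ((k2 q hL hx).1 (centralizer_le_normalizer _ e)) fun a ha => ?_,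
    fun e y hy => ?_⟩
  · refine ((q.eq_iff (Qt.LC ha) (mul_mem (mul_mem hx (Qt.LC ha)) (inv_mem hx))).1 ?_).2
    rw [q.conj hx (Qt.LC ha), ← e _ ((hL _).2 ⟨a, ha, rfl⟩), mul_inv_cancel_right]
  · obtain ⟨l, hl, rfl⟩ := (hL _).1 hy
    rw [← q.mul _ (Qt.LC hl) _ hx, ← q.mul _ hx _ (Qt.LC hl), e l hl]

theorem perf (pf : L ≤ ⁅L, L⁆) : L' ≤ ⁅L', L'⁆ := fun y hy => by
  obtain ⟨l, hl, rfl⟩ := (hL _).1 hy
  have : ⁅L, L⁆ ≤ (⁅L', L'⁆.comap q.hom).map (𝐂(L ⊓ 𝐂(L))).subtype := commutator_le.2 fun a ha b hb =>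
    ⟨⁅(⟨a, Qt.LC ha⟩ : 𝐂(L ⊓ 𝐂(L))), ⟨b, Qt.LC hb⟩⁆, by
      rw [SetLike.mem_coe, mem_comap, map_commutatorElement]
      exact commutator_mem_commutator ((hL _).2 ⟨a, ha, rfl⟩) ((hL _).2 ⟨b, hb, rfl⟩), rfl⟩
  obtain ⟨x, hx, rfl⟩ := this (pf hl)
  exact hx

omit hL in
theorem k5 (w : V0 F t L O α h) {x : G} (hx : x ∈ 𝐂(L ⊓ 𝐂(L))) (e : p x * p t = p t * p x) :
    x * t = t * x := by
  have tC := Qt.CC w.tL
  have z := (q.eq_iff tC (mul_mem (mul_mem hx tC) (inv_mem hx))).1 (by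
    rw [q.conj hx tC, e, mul_inv_cancel_right])
  have e1 : t⁻¹ * (x * t * x⁻¹) * (t⁻¹ * (x * t * x⁻¹)) = 1 := by
    calc _ = t⁻¹ * (x * t * x⁻¹) * t * (x * t * x⁻¹) := by
          rw [mul_assoc (t⁻¹ * (x * t * x⁻¹)) t, w.ti]
      _ = t * (t⁻¹ * (x * t * x⁻¹)) * (x * t * x⁻¹) := by rw [w.Lt z.1]
      _ = x * (t * t) * x⁻¹ := by group
      _ = 1 := by rw [w.t2]; group
  have := (P2.of_sq e1).eq_one (w.cov.odd' z.1 z.2)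
  rw [inv_mul_eq_one, eq_mul_inv_iff_mul_eq] at this
  exact this.symm

end Q

open Q in
/-- package Q, file Lib/StdZ/Q -/
theorem V0.down {K : Type*} [Group K] [Finite K] {p : G → K} (H : Fx F) (w : V0 F t L O α h) (q : Qt L p) :
    ∃ (L' O' : Subgroup K) (α' : K → X), W0 F (p t) L' O' α' (fun j => p (h j)) ∧
      (∀ y, y ∈ L' ↔ ∃ l ∈ L, p l = y) ∧ ∀ y, y ∈ O' ↔ ∃ o ∈ O, p o = y := by
  obtain ⟨L', hL⟩ := exists_im q (Qt.LC (L := L))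
  obtain ⟨O', hO⟩ := exists_im q (w.OL.trans Qt.CC)
  choose s sC ps using q.onto
  have c := w.cov
  have tC := Qt.CC w.tL
  have k3 : ∀ x ∈ 𝐂(L ⊓ 𝐂(L)), x ∈ 𝐍(L) → α (s (p x)) = α x := fun x hx hn => by
    have := c.mul_cen hn ((q.eq_iff hx (sC (p x))).1 (ps _).symm).2
    rwa [mul_inv_cancel_left] at this
  have sN : ∀ g ∈ 𝐍(L'), s g ∈ 𝐍(L) := fun g hg => (k2 q hL (sC g)).1 (by rwa [ps])
  have sL : ∀ g ∈ L', s g ∈ L := fun g hg => (k1 q hL (sC g)).1 (by rwa [ps])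
  have inj : ∀ a ∈ L', α (s a) = 1 → a = 1 := fun a ha e => by
    rw [← ps a]
    exact (q.ker _ (sC a)).2 ⟨sL a ha, (c.ker _ (le_normalizer (sL a ha))).1 e⟩
  have cm : ∀ g, g * p t = p t * g → s g * t = t * s g := fun g e => k5 q w (sC g) (by rwa [ps])
  refine ⟨L', O', fun y => α (s y), ⟨⟨⟨fun g hg k hk => ?_, fun a ha => c.mem _ (sL a ha), fun j hj => ?_,
    fun g hg => ?_, fun a ha e => ?_, perf q hL c.perf⟩, fun j hj => (hL _).2 ⟨_, w.hL j hj, rfl⟩,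
    fun j hj => (k3 _ (Qt.LC (w.hL j hj)) (le_normalizer (w.hL j hj))).trans (w.αh j hj), inj⟩, ?_,
    fun e => w.tL' ((q.ker t tC).1 e).1, (k4 q hL c.perf tC).2 w.tL, fun g e => ?_, fun y hy => ?_,
    fun y hy => ?_, fun y hy => ?_, fun k hk e => ?_⟩, hL, hO⟩
  · have := k3 _ (mul_mem (sC g) (sC k)) (mul_mem (sN g hg) (sN k hk))
    rw [q.mul _ (sC g) _ (sC k), ps, ps] at this
    exact this.trans (c.mul _ (sN g hg) _ (sN k hk))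
  · obtain ⟨a, ha, rfl⟩ := c.onto j hj
    exact ⟨p a, (hL _).2 ⟨a, ha, rfl⟩, k3 a (Qt.LC ha) (le_normalizer ha)⟩
  · rw [c.ker _ (sN g hg), ← k4 q hL c.perf (sC g), ps]
  · rw [inj a ha e, orderOf_one]
    exact odd_one
  · rw [← q.mul _ tC _ tC, w.t2, q.one]
  · rw [← ps g]
    exact (k2 q hL (sC g)).2 (w.CN _ (cm g e))
  · obtain ⟨o, ho, rfl⟩ := (hO y).1 hy
    exact (k4 q hL c.perf (Qt.CC (w.OL ho))).2 (w.OL ho)
  · obtain ⟨o, ho, rfl⟩ := (hO y).1 hy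
    rw [← q.mul _ (Qt.CC (w.OL ho)) _ tC, w.Ot o ho, q.mul _ tC _ (Qt.CC (w.OL ho))]
  · obtain ⟨o, ho, rfl⟩ := (hO y).1 hy
    refine (w.oddO o ho).of_dvd_nat (orderOf_dvd_of_pow_eq_one ?_)
    rw [← q.pow (Qt.CC (w.OL ho)), pow_orderOf_eq_one, q.one]
  · refine (w.ker2 _ ((k4 q hL c.perf (sC k)).1 (by rwa [ps])) (cm k e)).imp (fun e1 => (hO _).2 ⟨_, e1, ps k⟩)
      fun e1 => (hO _).2 ⟨_, e1, ?_⟩
    rw [q.mul _ (sC k) _ tC, ps]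

end H36.SZ
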