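import Mathlib
import Cfsg.Agent.Lib.StdZ.Basic
import Cfsg.Agent.Lib.StdW.A
import Cfsg.Agent.Lib.StdW.D3
import Cfsg.Agent.Lib.StdW.F1

/-! The product structure of the quotient by `Z(L)` lifts. -/

set_option autoImplicit false
set_option linter.unusedSectionVars false

namespace H36.SZ

open Subgroup H69 H36.SW H36.SV
open H48.SM (Pf)
open H43.SW (E2)
open scoped commutatorElement

variable {X : Type} [Group X] [Finite X] {G : Type*} [Group G] [Finite G] {F : Dy X}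
variable {t : G} {L O : Subgroup G} {α : G → X} {h : X → G}

namespace U
variable {K : Type*} [Group K] {p : G → K} {J : Subgroup X}

theorem z1 (c : Cov J L α) {ζ : G} (hζ : ζ ∈ L ⊓ 𝐂(L)) (e : ζ * ζ = 1) : ζ = 1 :=
  (P2.of_sq e).eq_one (c.odd' hζ.1 hζ.2)

theorem inv_comm (c : Cov J L α) (q : Qt L p) {i x : G} (hi : i ∈ 𝐂(L ⊓ 𝐂(L))) (i2 : i * i = 1)
    (hx : x ∈ 𝐂(L ⊓ 𝐂(L))) (e : p i * p x = p x * p i) : i * x = x * i := by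
  have m : x⁻¹ * (i * x * i⁻¹) ∈ L ⊓ 𝐂(L) :=
    (q.eq_iff hx (mul_mem (mul_mem hi hx) (inv_mem hi))).1 (by rw [q.conj hi hx, e, mul_inv_cancel_right])
  obtain ⟨ζ, hζ⟩ : ∃ ζ, ζ = x⁻¹ * (i * x * i⁻¹) := ⟨_, rfl⟩
  rw [← hζ] at m
  have e1 : i * x = x * ζ * i := by rw [hζ]; group
  have c1 : ζ * i = i * ζ := hi ζ m
  have e2 : x = x * (ζ * ζ) := by
    calc x = i * i * x := by rw [i2, one_mul]
      _ = i * (x * ζ * i) := by rw [mul_assoc, e1]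
      _ = i * x * (ζ * i) := by simp only [mul_assoc]
      _ = x * ζ * (i * (i * ζ)) := by rw [e1, c1]; simp only [mul_assoc]
      _ = _ := by rw [← mul_assoc i, i2, one_mul, mul_assoc]
  rw [e1, z1 c m (by simpa using e2.symm), mul_one]

theorem uniq (c : Cov J L α) (q : Qt L p) {a b : G} (ha : a ∈ 𝐂(L ⊓ 𝐂(L))) (a2 : a * a = 1)
    (hb : b ∈ 𝐂(L ⊓ 𝐂(L))) (b2 : b * b = 1) (e : p a = p b) : a = b := by
  have m := (q.eq_iff ha hb).1 e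
  have c1 : a * b = b * a := inv_comm c q ha a2 hb (by rw [e])
  have : a⁻¹ * b = 1 := z1 c m (by
    rw [inv_eq_of_mul_eq_one_left a2, mul_assoc, ← mul_assoc b, ← c1, mul_assoc, b2, mul_one, a2])
  exact inv_mul_eq_one.1 this

theorem lift (c : Cov J L α) (q : Qt L p) {y : K} (y2 : y * y = 1) :
    ∃ i ∈ 𝐂(L ⊓ 𝐂(L)), i * i = 1 ∧ p i = y := by
  obtain ⟨x, hx, rfl⟩ := q.onto y
  have m : x * x ∈ L ⊓ 𝐂(L) := (q.ker _ (mul_mem hx hx)).1 (by rw [q.mul _ hx _ hx, y2])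
  refine ⟨x ^ orderOf (x * x), pow_mem hx _, ?_, ?_⟩
  · rw [← (Commute.refl x).mul_pow, pow_orderOf_eq_one]
  · rw [q.pow hx, pow_odd_of_sq y2 (c.odd' m.1 m.2)]

end U

theorem V0.up {K : Type*} [Group K] [Finite K] {p : G → K} (H : Fx F) (w : V0 F t L O α h) (q : Qt L p)
    {L' O' A' : Subgroup K} {α' β' : K → X} {u' : K} (hL : ∀ y, y ∈ L' ↔ ∃ l ∈ L, p l = y)
    (hO : ∀ y, y ∈ O' ↔ ∃ o ∈ O, p o = y) (P : Pr F (p t) L' O' α' (fun j => p (h j)) u' A' β') :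
    ∃ u A β, Pv F t L O α h u A β := by
  have c := w.cov
  let A : Subgroup G := closure {i | i ∈ 𝐂(L ⊓ 𝐂(L)) ∧ i * i = 1 ∧ p i ∈ A'}
  have ind : ∀ {N : Subgroup G}, (∀ i ∈ 𝐂(L ⊓ 𝐂(L)), i * i = 1 → p i ∈ A' → i ∈ N) → A ≤ N := fun h =>
    (closure_le _).2 fun i hi => h i hi.1 hi.2.1 hi.2.2
  have mA : ∀ {i}, i ∈ 𝐂(L ⊓ 𝐂(L)) → i * i = 1 → p i ∈ A' → i ∈ A := fun h1 h2 h3 =>
    subset_closure ⟨h1, h2, h3⟩
  have AC : A ≤ 𝐂(L ⊓ 𝐂(L)) := ind fun i hi _ _ => hi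
  have pA : ∀ a ∈ A, p a ∈ A' := fun a ha => by
    have : A ≤ (A'.comap q.hom).map (𝐂(L ⊓ 𝐂(L))).subtype := ind fun i hi _ h3 => ⟨⟨i, hi⟩, h3, rfl⟩
    obtain ⟨k, hk, rfl⟩ := this ha
    exact hk
  have onA : ∀ y ∈ A', ∃ a ∈ A, p a = y := fun y hy => by
    have : closure {g | g ∈ A' ∧ g * g = 1} ≤ (A.subgroupOf 𝐂(L ⊓ 𝐂(L))).map q.hom :=
      (closure_le _).2 fun g hg => by
        obtain ⟨i, hi, i2, rfl⟩ := U.lift c q hg.2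
        exact ⟨⟨i, hi⟩, mA hi i2 hg.1, rfl⟩
    obtain ⟨k, hk, rfl⟩ := this (P.genA hy)
    exact ⟨k, hk, rfl⟩
  have cA : ∀ {x}, x ∈ 𝐂(L ⊓ 𝐂(L)) → (∀ y ∈ A', y * p x = p x * y) → x ∈ 𝐂(A) := fun {x} hx e a ha => by
    have : A ≤ centralizer {x} := ind fun i hi i2 h3 =>
      mem_centralizer_singleton_iff.2 (U.inv_comm c q hi i2 hx (e _ h3))
    exact mem_centralizer_singleton_iff.1 (this ha)
  have tC : t ∈ 𝐂(L ⊓ 𝐂(L)) := Qt.CC w.tL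
  have cjC : ∀ {k}, k ∈ A → t * k * t⁻¹ ∈ 𝐂(L ⊓ 𝐂(L)) := fun hk =>
    mul_mem (mul_mem tC (AC hk)) (inv_mem tC)
  have cm : ∀ g ∈ A, ∀ k ∈ A, g * (t * k * t⁻¹) = (t * k * t⁻¹) * g := fun g hg k hk =>
    cA (cjC hk) (fun y hy => by rw [q.conj tC (AC hk)]; exact P.comm y hy _ (pA k hk)) g hg
  have pp : ∀ g ∈ A, p (g * (t * g * t⁻¹)) = p g * (p t * p g * (p t)⁻¹) := fun g hg => by
    rw [q.mul _ (AC hg) _ (cjC hg), q.conj tC (AC hg)]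
  have pL : ∀ g ∈ A, g * (t * g * t⁻¹) ∈ L := fun g hg => by
    obtain ⟨l, hl, e⟩ := (hL _).1 (P.piL _ (pA g hg))
    rw [← pp g hg, q.eq_iff (Qt.LC hl) (mul_mem (AC hg) (cjC hg))] at e
    exact (mul_mem_cancel_left (inv_mem hl)).1 e.1
  have rL : (piH t cm).range ≤ L := fun _ ⟨g, e⟩ => e ▸ pL g g.2
  have onL : L ≤ (piH t cm).range := c.gen rL fun j hj => by
    obtain ⟨g', hg', e⟩ := P.onL _ ((hL _).2 ⟨h j, w.hL j hj, rfl⟩)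
    obtain ⟨g, hg, rfl⟩ := onA g' hg'
    rw [← pp g hg, eq_comm, q.eq_iff (Qt.LC (w.hL j hj)) (mul_mem (AC hg) (cjC hg))] at e
    refine ⟨_, ⟨⟨g, hg⟩, rfl⟩, ?_⟩
    have := c.mul_cen (w.hN hj) e.2
    rwa [mul_inv_cancel_left, w.αh j hj] at this
  have perf : A ≤ ⁅A, A⁆ := ind fun i hi i2 h3 => by
    have : ⁅A', A'⁆ ≤ (⁅A, A⁆.subgroupOf 𝐂(L ⊓ 𝐂(L))).map q.hom := commutator_le.2 fun y hy y' hy' => by
      obtain ⟨a, ha, rfl⟩ := onA y hy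
      obtain ⟨b, hb, rfl⟩ := onA y' hy'
      exact ⟨⁅(⟨a, AC ha⟩ : 𝐂(L ⊓ 𝐂(L))), ⟨b, AC hb⟩⁆, commutator_mem_commutator ha hb,
        map_commutatorElement _ _ _⟩
    obtain ⟨d, hd, e0⟩ := this (P.covA.perf h3)
    have m := (q.eq_iff d.2 hi).1 e0
    have := Commute.mul_pow (show Commute (d : G) ((d : G)⁻¹ * i) from (d.2 _ m).symm)
      (orderOf ((d : G)⁻¹ * i))
    rw [pow_orderOf_eq_one, mul_one, mul_inv_cancel_left, pow_odd_of_sq i2 (c.odd' m.1 m.2)] at this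
    rw [this]; exact pow_mem hd _
  let f : A →* X := P.covA.hom.comp ((q.hom.comp (inclusion AC)).codRestrict _
    fun a => le_normalizer (pA a a.2))
  have fa : ∀ a : A, f a = β' (p a) := fun _ => rfl
  obtain ⟨β, h1, -⟩ := exists_cov H f (fun a => P.covA.mem _ (pA a a.2))
    (fun j hj => by
      obtain ⟨y, hy, rfl⟩ := P.covA.onto j hj
      obtain ⟨a, ha, rfl⟩ := onA y hy
      exact ⟨⟨a, ha⟩, rfl⟩)
    (fun a e => by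
      rw [fa] at e
      refine ⟨cA (AC a.2) ((P.covA.ker _ (le_normalizer (pA a a.2))).1 e), ?_⟩
      have o := P.covA.odd _ (pA a a.2) e
      have m : (a : G) ^ orderOf (p a) ∈ L ⊓ 𝐂(L) := (q.ker _ (pow_mem (AC a.2) _)).1 (by
        rw [q.pow (AC a.2), pow_orderOf_eq_one])
      refine Odd.of_dvd_nat (o.mul (c.odd' m.1 m.2)) (orderOf_dvd_of_pow_eq_one ?_)
      rw [pow_mul, pow_orderOf_eq_one]) perf
  obtain ⟨u, uC, u2, rfl⟩ := U.lift c q P.u2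
  have zC : h F.z ∈ 𝐂(L ⊓ 𝐂(L)) := Qt.LC (w.hL _ H.zJ)
  refine ⟨u, A, β, w, u2, U.uniq c q (mul_mem (mul_mem uC tC) (inv_mem uC)) (cjsq w.t2 u) (mul_mem tC zC)
    ?_ ?_, fun o ho => ?_, fun l hl hD => ?_, h1, cm, pL, fun l hl => ?_, mA uC u2 P.uA,
    ind fun i hi i2 h3 => subset_closure ⟨mA hi i2 h3, i2⟩⟩
  · rw [mul_assoc, ← mul_assoc (h F.z), w.ht H.zJ, mul_assoc, w.sq H.zJ (H.Zc_sq Dy.Zz), mul_one, w.t2]
  · rw [q.conj uC tC, q.mul _ tC _ zC]; exact P.ut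
  · exact U.inv_comm c q uC u2 (Qt.CC (w.OL ho)) (P.uO _ ((hO _).2 ⟨o, ho, rfl⟩))
  · have hJ := c.mem l hl
    obtain ⟨ζ, z1, z2, -, e⟩ := dif c (w.hL _ hJ) hl (w.αh _ hJ)
    have : p (h (α l)) = p l := (q.eq_iff (Qt.LC (w.hL _ hJ)) (Qt.LC hl)).2 (by
      have : (h (α l))⁻¹ * l = ζ := by rw [inv_mul_eq_iff_eq_mul]; exact e
      rw [this]; exact ⟨z1, z2⟩)
    exact U.inv_comm c q uC u2 (Qt.LC hl) (this ▸ P.uD _ hD)
  · obtain ⟨g, e⟩ := onL hl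
    exact ⟨g, g.2, e⟩

end H36.SZ
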