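import Cfsg.Agent.Lib.StdZ.Mid
import Cfsg.Agent.Lib.StdZ.A1
import Cfsg.Agent.Lib.StdZ.A2
import Cfsg.Agent.Lib.StdZ.A3
import Cfsg.Agent.Lib.StdZ.C1
import Cfsg.Agent.Lib.StdZ.Q
import Cfsg.Agent.Lib.StdZ.U
import Cfsg.Agent.Lib.StdZ.E1
import Cfsg.Agent.Lib.StdZ.E2
import Cfsg.Agent.Lib.StdV.FxSuz
import Cfsg.Agent.Lib.StdV.LnSuz
import Cfsg.Agent.Lib.StdV.ReSuz

/-! No standard subgroup `K` with `K / Z(K) ≅ Suz` and `Z(K)` of odd order when `F*(G)` is simple. -/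

set_option autoImplicit false

namespace H36.SZ

open Subgroup H69 H36.SW H36.SV

theorem no_std {X : Type} [Group X] [Finite X] {G : Type*} [Group G] [Finite G] {F : Dy X} (H : Fx F) (r : Re F)
    (m : F.Mode1) (oo : Nat.card F.Ts ≤ F.n2 ^ 2) (hF : IsSimpleGroup (Cfsg.generalizedFittingSubgroup G))
    (hF' : ¬ IsMulCommutative (Cfsg.generalizedFittingSubgroup G)) {L : Subgroup G}
    (hL : Cfsg.IsStandardSubgroup L) (e : (L ⧸ center L) ≃* F.J) (ho : Odd (Nat.card (center L))) : False := by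
  obtain ⟨α, c0⟩ := cov_of_iso H hL.1 e ho
  obtain ⟨h, c⟩ := exists_sec c0
  have h0 := A.le_fStar hF hF' hL
  obtain ⟨g, k, b, ez⟩ := exists_bad H hF hL h0 c
  obtain ⟨t, O, g, w, gt⟩ := exists_V H (A.St.of hL) c (cen4 H m c) b ez
  obtain ⟨g, gt, gO⟩ := w.cenO H m gt
  obtain ⟨K, _, _, p, q⟩ := exists_qt L
  obtain ⟨L', O', α', w', hL', hO'⟩ := w.down H q
  have gC : g ∈ 𝐂(L ⊓ 𝐂(L)) := fun a ha => (gO a (w.ZO ha.1 ha.2)).symm
  obtain ⟨u', A', β', P⟩ := exists_pr H r (⟨w', p g, by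
    rw [← q.conj gC (Qt.CC w.tL), gt, q.mul _ (Qt.CC w.tL) _ (Qt.LC (w.hL _ H.zJ))]⟩ :
      W F (p t) L' O' α' fun j => p (h j))
  obtain ⟨u, A, β, P'⟩ := w.up H q hL' hO' P
  obtain ⟨d⟩ := P'.exists_e2 H (w.not_norm H oo) inferInstance hF h0
  exact e2_end H d

/-- `K = Suz` and `K = 3.Suz` -/
theorem no_Suz {G : Type*} [Group G] [Finite G] (hF : IsSimpleGroup (Cfsg.generalizedFittingSubgroup G))
    (hF' : ¬ IsMulCommutative (Cfsg.generalizedFittingSubgroup G)) (K : Subgroup G)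
    (hK : Cfsg.IsStandardSubgroup K) (hX : Cfsg.Spor.IsoSuz (K ⧸ center K)) (ho : Odd (Nat.card (center K))) :
    False :=
  no_std Suz.fx (Suz.re Suz.ln) Suz.mode1 Suz.oo hF hF' hK (hX.some.trans Suz.iso.some.symm) ho

end H36.SZ
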