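import Cfsg.Agent.Lib.StdV.Main
import Cfsg.Agent.Lib.StdZ.Basic

/-! The middle game of `StdV` as one statement; the cover attached to `L / Z(L) ≅ J`. -/

set_option autoImplicit false

namespace H36.SZ

open Subgroup H69 H36.SW H36.SV

variable {X : Type} [Group X] [Finite X] {G : Type*} [Group G] [Finite G] {F : Dy X}

theorem exists_pr (H : Fx F) (r : Re F) {t : G} {L O : Subgroup G} {α : G → X} {h : X → G}
    (w : W F t L O α h) : ∃ u A β, Pr F t L O α h u A β := by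
  have c := w.toIso
  obtain ⟨g1, w1⟩ := w.exists_w1 H
  obtain ⟨u, w2⟩ := w1.exists_w2 H
  obtain ⟨ε, x, -⟩ := w2.exists_we H
  have ty : ∀ a c, F.Ty a c → AdE F h ε a c 1 := fun a c => x.ty_ad H r.ln
  obtain ⟨S, gen, hS, rel⟩ := r.gen
  refine ⟨_, x.exists_pr H gen hS fun s hs s' hs' => ?_⟩
  obtain ⟨z', -, -, e1⟩ := rel _ _ (x.ru H ty) (fun a => x.phi H ty) s' hs' s hs
  have j' := H.Zc_mem z'
  have e2 := x.ecj s' z' s' j'
  rw [mul_inv_cancel_right, eq_mul_inv_iff_mul_eq] at e2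
  have e3 : ε s' * h s' * (ε s' * h s') = 1 := by
    rw [mul_assoc, ← mul_assoc (h s'), ← e2, mul_assoc, c.sq j' (H.Zc_sq z'), mul_one, x.e2 s' z']
  rw [c.one, one_mul] at e1
  change ε s * (ε s' * h s') = ε s' * h s' * ε s
  generalize ε s' * h s' = y at e1 e3
  calc ε s * y = y * (y * ε s * y) := by rw [← mul_assoc, ← mul_assoc, e3, one_mul]
    _ = y * ε s := by rw [e1]

theorem cov_of_iso (H : Fx F) {L : Subgroup G} (hL : Cfsg.IsQuasisimple L) (e : (L ⧸ center L) ≃* F.J)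
    (ho : Odd (Nat.card (center L))) : ∃ α : G → X, Cov F.J L α := by
  obtain ⟨α, c, -⟩ := H36.SV.exists_cov H (A := L)
    (F.J.subtype.comp (e.toMonoidHom.comp (QuotientGroup.mk' _))) (fun a => (e _).2)
    (fun j hj => by
      obtain ⟨y, hy⟩ := e.surjective ⟨j, hj⟩
      obtain ⟨a, rfl⟩ := QuotientGroup.mk_surjective y
      exact ⟨a, congrArg Subtype.val hy⟩)
    (fun a ha => by
      have h1 : a ∈ center L := (QuotientGroup.eq_one_iff a).1 (e.map_eq_one_iff.1 (Subtype.ext ha))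
      refine ⟨fun b hb => congrArg Subtype.val (mem_center_iff.1 h1 ⟨b, hb⟩), ?_⟩
      rw [orderOf_coe]
      exact Odd.of_dvd_nat ho (orderOf_dvd_natCard _ h1))
    (H23.IsQuasisimple.commutator_self hL).ge
  exact ⟨α, c⟩

/-- the end game -/
theorem e2_end (H : Fx F) (d : H43.SW.E2 F.J F.T G) : False := by
  have s := H.sylE d
  refine H.e2_false d s (H.fus1 d s) fun i hi i2 g hg m => ?_
  exact H.fus1 d.symm (sup_comm d.T1 d.T2 ▸ s) i hi i2 g hg (sup_comm d.T1 d.T2 ▸ m)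

end H36.SZ
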